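import Mathlib
import Cfsg.Prelude.Def_LieExceptional
import Cfsg.Agent.Lib.Helper1.SZInternal
import Cfsg.Agent.Lib.Helper1.SZConjB
import Cfsg.Agent.Lib.Helper1.MinNormal
import Cfsg.Agent.Lib.Helper9.Supersolvable4

/-!
# CN-groups: quotients by solvable normal subgroups (Feit–Hall–Thompson)
-/

set_option autoImplicit false
set_option linter.unusedSectionVars false

namespace Cfsg.Agent.Lib.Helper9

open Subgroup

universe u

/-- Subgroups of nilpotent subgroups are nilpotent. -/
theorem isNilpotent_of_le' {G : Type*} [Group G] {H K : Subgroup G} (h : H ≤ K)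
    (hK : Group.IsNilpotent K) : Group.IsNilpotent H := by
  have : Group.IsNilpotent (H.subgroupOf K) := Subgroup.isNilpotent _
  exact Group.nilpotent_of_mulEquiv (Subgroup.subgroupOfEquivOfLe h)

/-- Images of nilpotent subgroups are nilpotent. -/
theorem isNilpotent_map' {G G' : Type*} [Group G] [Group G'] (f : G →* G') (K : Subgroup G)
    (hK : Group.IsNilpotent K) : Group.IsNilpotent (K.map f) :=
  Group.nilpotent_of_surjective (f.subgroupMap K) (f.subgroupMap_surjective K)

/-- In a nilpotent group, elements of coprime orders commute. -/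
theorem commute_of_coprime_orderOf_of_isNilpotent (G : Type u) [Group G] [Group.IsNilpotent G] :
    ∀ a b : G, (orderOf a).Coprime (orderOf b) → a * b = b * a := by
  apply @Group.nilpotent_center_quotient_ind
    (fun G _ _ => ∀ a b : G, (orderOf a).Coprime (orderOf b) → a * b = b * a) G _ _
  · intro G _ _ a b _; exact Subsingleton.elim _ _
  · intro G _ _ ih a b hab
    have h1 : ((a : G ⧸ center G)) * (b : G ⧸ center G) = (b : G ⧸ center G) * (a : G ⧸ center G) := by
      apply ih
      exact Nat.Coprime.of_dvd (orderOf_map_dvd (QuotientGroup.mk' (center G)) a)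
        (orderOf_map_dvd (QuotientGroup.mk' (center G)) b) hab
    have hc : a * b * a⁻¹ * b⁻¹ ∈ center G := by
      rw [← QuotientGroup.eq_one_iff]
      simp only [QuotientGroup.mk_mul, QuotientGroup.mk_inv]
      rw [h1]; group
    set c := a * b * a⁻¹ * b⁻¹ with hc_def
    have hcc : ∀ g : G, g * c = c * g := fun g => Subgroup.mem_center_iff.mp hc g
    have e1 : a * b * a⁻¹ = c * b := by rw [hc_def]; group
    have e2 : c ^ orderOf b = 1 := by
      have h2 : (c * b) ^ orderOf b = c ^ orderOf b * b ^ orderOf b :=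
        Commute.mul_pow (hcc b).symm _
      have h3 : (a * b * a⁻¹) ^ orderOf b = 1 := by
        rw [conj_pow, pow_orderOf_eq_one]; group
      rw [e1, h2, pow_orderOf_eq_one, mul_one] at h3; exact h3
    have e3 : b * a⁻¹ * b⁻¹ = a⁻¹ * c := by rw [hc_def]; group
    have e4 : c ^ orderOf a = 1 := by
      have h2 : (a⁻¹ * c) ^ orderOf a = a⁻¹ ^ orderOf a * c ^ orderOf a :=
        Commute.mul_pow (hcc a⁻¹) _
      have h3 : (b * a⁻¹ * b⁻¹) ^ orderOf a = 1 := by
        rw [conj_pow, inv_pow, pow_orderOf_eq_one]; group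
      rw [e3, h2, inv_pow, pow_orderOf_eq_one, inv_one, one_mul] at h3; exact h3
    have e5 : orderOf c = 1 :=
      Nat.eq_one_of_dvd_coprimes hab (orderOf_dvd_of_pow_eq_one e4) (orderOf_dvd_of_pow_eq_one e2)
    have e6 : c = 1 := orderOf_eq_one_iff.mp e5
    calc a * b = c * b * a := by rw [hc_def]; group
      _ = b * a := by rw [e6, one_mul]

/-- Elements of coprime orders of a nilpotent subgroup commute. -/
theorem commute_of_mem_nilpotent {G : Type u} [Group G] {N : Subgroup G}
    (hN : Group.IsNilpotent N) {a b : G} (ha : a ∈ N) (hb : b ∈ N)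
    (hab : (orderOf a).Coprime (orderOf b)) : a * b = b * a := by
  have := commute_of_coprime_orderOf_of_isNilpotent N (⟨a, ha⟩ : N) ⟨b, hb⟩
    (by rwa [Subgroup.orderOf_mk, Subgroup.orderOf_mk])
  exact congrArg Subtype.val this

/-- Cyclic subgroups are solvable. -/
theorem isSolvable_zpowers' {G : Type*} [Group G] (h : G) : Group.IsSolvable (zpowers h) := by
  apply Group.isSolvable_of_comm
  rintro ⟨a, ha⟩ ⟨b, hb⟩
  obtain ⟨i, rfl⟩ := mem_zpowers_iff.mp ha
  obtain ⟨j, rfl⟩ := mem_zpowers_iff.mp hb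
  apply Subtype.ext
  simp only [Subgroup.coe_mul]
  rw [← zpow_add, ← zpow_add, add_comm]

theorem coprime_card_zpowers_of_isPGroup {G : Type u} [Group G] [Finite G] (p : ℕ)
    [Fact p.Prime] (M : Subgroup G) (hMp : IsPGroup p M) (h : G)
    (hcop : (orderOf h).Coprime p) : (Nat.card (zpowers h)).Coprime (Nat.card M) := by
  obtain ⟨k, hk⟩ := IsPGroup.iff_card.mp hMp
  rw [hk, Nat.card_zpowers]; exact Nat.Coprime.pow_right k hcop

/-- The CN property is invariant under isomorphism. -/
theorem isCNGroup_of_mulEquiv {G G' : Type*} [Group G] [Group G'] (e : G ≃* G')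
    (h : Cfsg.IsCNGroup G) : Cfsg.IsCNGroup G' := by
  intro g' hg'
  have h1 : e.symm g' ≠ 1 := by
    intro h2; apply hg'
    have := congrArg e h2
    simpa using this
  have h2 := h (e.symm g') h1
  refine isNilpotent_of_le' ?_ (isNilpotent_map' e.toMonoidHom _ h2)
  intro y hy
  refine ⟨e.symm y, ?_, by simp⟩
  rw [SetLike.mem_coe, mem_centralizer_iff]
  intro w hw
  rw [Set.mem_singleton_iff] at hw
  rw [hw, ← map_mul, ← map_mul]
  congr 1
  exact mem_centralizer_iff.mp hy g' (Set.mem_singleton _)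

section CNStep

variable {G : Type u} [Group G] [Finite G]

/-- Key claim: in a CN-group with an abelian normal `p`-subgroup `M`, `x ∉ M` and
`1 ≠ z ∈ C_M(x)`: a `p'`-element centralizing `x` modulo `M` centralizes `M`. -/
theorem cn_pprime_centralizes (hCN : Cfsg.IsCNGroup G) (p : ℕ) [Fact p.Prime]
    (M : Subgroup G) [M.Normal] (hMp : IsPGroup p M) (hMab : ∀ a ∈ M, ∀ b ∈ M, a * b = b * a)
    (x : G) (hx : x ∉ M) (z : G) (hzM : z ∈ M) (hz1 : z ≠ 1) (hzx : z * x = x * z)
    (h : G) (hh : x⁻¹ * h * x * h⁻¹ ∈ M) (hcop : (orderOf h).Coprime p) :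
    ∀ m ∈ M, h * m = m * h := by
  classical
  have hAN : zpowers h ≤ normalizer (M : Set G) := by rw [normalizer_eq_top]; exact le_top
  have hcardcop := coprime_card_zpowers_of_isPGroup p M hMp h hcop
  have hsolv : Group.IsSolvable (zpowers h) := isSolvable_zpowers' h
  have hk : ∀ a ∈ zpowers h, x⁻¹ * a * x * a⁻¹ ∈ M := by
    intro a ha
    obtain ⟨i, rfl⟩ := mem_zpowers_iff.mp ha
    have h1 : (QuotientGroup.mk h : G ⧸ M) * QuotientGroup.mk x
        = QuotientGroup.mk x * QuotientGroup.mk h := by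
      have h0 := (QuotientGroup.eq_one_iff (N := M) _).mpr hh
      simp only [QuotientGroup.mk_mul, QuotientGroup.mk_inv] at h0
      calc (h : G ⧸ M) * x = x * ((x : G ⧸ M)⁻¹ * h * x * (h : G ⧸ M)⁻¹) * h := by group
        _ = x * h := by rw [h0, mul_one]
    rw [← QuotientGroup.eq_one_iff]
    simp only [QuotientGroup.mk_mul, QuotientGroup.mk_inv, QuotientGroup.mk_zpow]
    have h2 : Commute ((h : G ⧸ M) ^ i) (x : G ⧸ M) := Commute.zpow_left h1 i
    rw [mul_assoc (x : G ⧸ M)⁻¹, h2.eq]; group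
  obtain ⟨n, hnM, hn⟩ := Cfsg.Agent.Lib.Helper1.exists_mul_mem_centralizer (zpowers h) M hAN
    hcardcop (Or.inl hsolv) x hk
  have hx'1 : x * n ≠ 1 := by
    intro h1
    apply hx
    have : x = n⁻¹ := eq_inv_of_mul_eq_one_left h1
    rw [this]; exact M.inv_mem hnM
  have hN' := hCN (x * n) hx'1
  have hhN' : h ∈ centralizer ({x * n} : Set G) := by
    rw [mem_centralizer_iff]; intro y hy; rw [Set.mem_singleton_iff] at hy; rw [hy]
    exact (mem_centralizer_iff.mp hn h (mem_zpowers h)).symm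
  have hzN' : z ∈ centralizer ({x * n} : Set G) := by
    rw [mem_centralizer_iff]; intro y hy; rw [Set.mem_singleton_iff] at hy; rw [hy]
    rw [mul_assoc, hMab n hnM z hzM, ← mul_assoc, ← hzx, mul_assoc]
  have hhz : h * z = z * h := by
    obtain ⟨k, hk⟩ := (IsPGroup.iff_orderOf.mp hMp) ⟨z, hzM⟩
    rw [Subgroup.orderOf_mk] at hk
    exact commute_of_mem_nilpotent hN' hhN' hzN' (by rw [hk]; exact Nat.Coprime.pow_right k hcop)
  have hN'' := hCN z hz1
  intro m hm
  have hmN : m ∈ centralizer ({z} : Set G) := by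
    rw [mem_centralizer_iff]; intro y hy; rw [Set.mem_singleton_iff] at hy; rw [hy]
    exact hMab z hzM m hm
  have hhN : h ∈ centralizer ({z} : Set G) := by
    rw [mem_centralizer_iff]; intro y hy; rw [Set.mem_singleton_iff] at hy; rw [hy]
    exact hhz.symm
  obtain ⟨k, hk⟩ := (IsPGroup.iff_orderOf.mp hMp) ⟨m, hm⟩
  rw [Subgroup.orderOf_mk] at hk
  exact commute_of_mem_nilpotent hN'' hhN hmN (by rw [hk]; exact Nat.Coprime.pow_right k hcop)

/-- Case of a `p`-element outside `M`: the full preimage of the centralizer is nilpotent. -/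
theorem cn_quotient_caseP (hCN : Cfsg.IsCNGroup G) (p : ℕ) [Fact p.Prime]
    (M : Subgroup G) [M.Normal] (hMp : IsPGroup p M) (hMab : ∀ a ∈ M, ∀ b ∈ M, a * b = b * a)
    (hM : M ≠ ⊥) (x : G) (hx : x ∉ M) (hxp : IsPGroup p (zpowers x)) :
    Group.IsNilpotent (centralizer ({(x : G ⧸ M)} : Set (G ⧸ M))) := by
  classical
  set C : Subgroup G :=
    (centralizer ({(x : G ⧸ M)} : Set (G ⧸ M))).comap (QuotientGroup.mk' M) with hC
  have hCmem : ∀ g : G, g ∈ C → (x : G ⧸ M) * g = g * x := by
    intro g hg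
    rw [hC, mem_comap, mem_centralizer_iff] at hg
    exact hg _ (Set.mem_singleton _)
  obtain ⟨z, hzM, hz1, hzc⟩ := exists_ne_one_mem_centralized (M ⊔ zpowers x) M
    (IsPGroup.to_sup_of_normal_left hMp hxp) le_sup_left
    (by rw [normalizer_eq_top]; exact le_top) hM
  have hzx : z * x = x * z := (hzc x (le_sup_right (α := Subgroup G) (mem_zpowers x))).symm
  have hclaim : ∀ h ∈ C, (orderOf h).Coprime p → ∀ m ∈ M, h * m = m * h := by
    intro h hh hcop
    apply cn_pprime_centralizes hCN p M hMp hMab x hx z hzM hz1 hzx h _ hcop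
    rw [← QuotientGroup.eq_one_iff]
    have h0 := hCmem h hh
    simp only [QuotientGroup.mk_mul, QuotientGroup.mk_inv]
    rw [mul_assoc (x : G ⧸ M)⁻¹, ← h0]; group
  let φ : C →* MulAut M := (MulAut.conjNormal : G →* MulAut M).comp C.subtype
  have hA : IsPGroup p φ.range := by
    rintro ⟨a, g, rfl⟩
    obtain ⟨b, m, hm, hbm⟩ := Nat.exists_eq_pow_mul_and_not_dvd (orderOf_pos (g : G)).ne' p
      (Fact.out : p.Prime).ne_one
    refine ⟨b, ?_⟩
    apply Subtype.ext
    simp only [Subgroup.coe_pow, Subgroup.coe_one]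
    rw [← map_pow]
    have hcop : (orderOf ((g : G) ^ p ^ b)).Coprime p := by
      have h1 : ((g : G) ^ p ^ b) ^ m = 1 := by rw [← pow_mul, ← hbm, pow_orderOf_eq_one]
      have h2 := orderOf_dvd_of_pow_eq_one h1
      exact Nat.Coprime.coprime_dvd_left h2
        ((Nat.Prime.coprime_iff_not_dvd Fact.out).mpr hm).symm
    have hcen := hclaim ((g : G) ^ p ^ b) (C.pow_mem g.2 _) hcop
    ext m'
    simp only [φ, MonoidHom.coe_comp, Function.comp_apply, Subgroup.coe_subtype,
      Subgroup.coe_pow, MulAut.conjNormal_apply, MulAut.one_apply]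
    rw [hcen m' m'.2]; group
  have hdvd : p ∣ Nat.card M := by
    obtain ⟨k, hk⟩ := IsPGroup.iff_card.mp hMp
    have hk0 : k ≠ 0 := by
      rintro rfl
      rw [pow_zero] at hk
      exact hM (Subgroup.card_eq_one.mp hk)
    rw [hk]; exact dvd_pow_self p hk0
  have h1fix : (1 : M) ∈ MulAction.fixedPoints φ.range M := by
    intro a; rw [Subgroup.smul_def, MulAut.smul_def, map_one]
  obtain ⟨y, hyfix, hy1⟩ :=
    hA.exists_fixed_point_of_prime_dvd_card_of_fixed_point M hdvd h1fix
  have hyC : C ≤ centralizer ({(y : G)} : Set G) := by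
    intro g hg
    rw [mem_centralizer_iff]; intro w hw; rw [Set.mem_singleton_iff] at hw; rw [hw]
    have h0 := hyfix ⟨φ ⟨g, hg⟩, ⟨⟨g, hg⟩, rfl⟩⟩
    rw [Subgroup.smul_def, MulAut.smul_def] at h0
    have h2 : g * (y : G) * g⁻¹ = y := by
      have h3 := congrArg Subtype.val h0
      simpa [φ, MulAut.conjNormal_apply] using h3
    calc (y : G) * g = (g * y * g⁻¹) * g := by rw [h2]
      _ = g * y := by group
  have hyne : (y : G) ≠ 1 := by
    intro h; apply hy1; apply Subtype.ext; simp [h]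
  have hCnil : Group.IsNilpotent C := isNilpotent_of_le' hyC (hCN _ hyne)
  have hmap : C.map (QuotientGroup.mk' M) = centralizer ({(x : G ⧸ M)} : Set (G ⧸ M)) := by
    rw [hC]; exact Subgroup.map_comap_eq_self_of_surjective (QuotientGroup.mk'_surjective M) _
  rw [← hmap]
  exact isNilpotent_map' _ _ hCnil

/-- Case of a `p'`-element outside `M`: the centralizer in the quotient is covered by the
centralizer in `G`. -/
theorem cn_quotient_caseQ (hCN : Cfsg.IsCNGroup G) (p : ℕ) [Fact p.Prime]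
    (M : Subgroup G) [M.Normal] (hMp : IsPGroup p M)
    (x : G) (hx : x ∉ M) (hcop : (orderOf x).Coprime p) :
    Group.IsNilpotent (centralizer ({(x : G ⧸ M)} : Set (G ⧸ M))) := by
  have hx1 : x ≠ 1 := fun h => hx (h ▸ M.one_mem)
  have hle : centralizer ({(x : G ⧸ M)} : Set (G ⧸ M))
      ≤ (centralizer ({x} : Set G)).map (QuotientGroup.mk' M) := by
    intro gb hgb
    obtain ⟨g, rfl⟩ := QuotientGroup.mk_surjective gb
    have hcomm : (x : G ⧸ M) * g = g * x :=
      mem_centralizer_iff.mp hgb (x : G ⧸ M) (Set.mem_singleton _)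
    have hAN : zpowers x ≤ normalizer (M : Set G) := by rw [normalizer_eq_top]; exact le_top
    have hcardcop := coprime_card_zpowers_of_isPGroup p M hMp x hcop
    have hsolv : Group.IsSolvable (zpowers x) := isSolvable_zpowers' x
    have hk : ∀ a ∈ zpowers x, g⁻¹ * a * g * a⁻¹ ∈ M := by
      intro a ha
      obtain ⟨i, rfl⟩ := mem_zpowers_iff.mp ha
      rw [← QuotientGroup.eq_one_iff]
      simp only [QuotientGroup.mk_mul, QuotientGroup.mk_inv, QuotientGroup.mk_zpow]
      have h2 : Commute ((x : G ⧸ M) ^ i) (g : G ⧸ M) := Commute.zpow_left hcomm i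
      rw [mul_assoc (g : G ⧸ M)⁻¹, h2.eq]; group
    obtain ⟨n, hnM, hn⟩ := Cfsg.Agent.Lib.Helper1.exists_mul_mem_centralizer (zpowers x) M hAN
      hcardcop (Or.inl hsolv) g hk
    refine ⟨g * n, ?_, ?_⟩
    · rw [SetLike.mem_coe, mem_centralizer_iff]; intro w hw
      rw [Set.mem_singleton_iff] at hw; rw [hw]
      exact mem_centralizer_iff.mp hn x (mem_zpowers x)
    · rw [QuotientGroup.mk'_apply, QuotientGroup.mk_mul,
        (QuotientGroup.eq_one_iff (N := M) n).mpr hnM, mul_one]
  exact isNilpotent_of_le' hle (isNilpotent_map' _ _ (hCN x hx1))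

/-- One step: the quotient of a CN-group by a nontrivial abelian normal `p`-subgroup is CN. -/
theorem cn_quotient_step (hCN : Cfsg.IsCNGroup G) (p : ℕ) [Fact p.Prime]
    (M : Subgroup G) [M.Normal] (hMp : IsPGroup p M) (hMab : ∀ a ∈ M, ∀ b ∈ M, a * b = b * a)
    (hM : M ≠ ⊥) : Cfsg.IsCNGroup (G ⧸ M) := by
  intro gb hgb
  obtain ⟨x, rfl⟩ := QuotientGroup.mk_surjective gb
  have hx : x ∉ M := fun h => hgb ((QuotientGroup.eq_one_iff x).mpr h)
  obtain ⟨b, m, hm, hbm⟩ := Nat.exists_eq_pow_mul_and_not_dvd (orderOf_pos x).ne' p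
    (Fact.out : p.Prime).ne_one
  by_cases hx1 : x ^ p ^ b ∈ M
  · have hxp : IsPGroup p (zpowers x) := by
      obtain ⟨k, hk⟩ := hMp ⟨x ^ p ^ b, hx1⟩
      have hk' : (x ^ p ^ b) ^ p ^ k = 1 := by simpa using congrArg Subtype.val hk
      have h3 : x ^ p ^ (b + k) = 1 := by rw [pow_add, pow_mul]; exact hk'
      rintro ⟨a, ha⟩
      obtain ⟨i, rfl⟩ := mem_zpowers_iff.mp ha
      refine ⟨b + k, Subtype.ext ?_⟩
      simp only [Subgroup.coe_pow, Subgroup.coe_one]
      rw [← zpow_natCast, ← zpow_mul, mul_comm, zpow_mul, zpow_natCast, h3, one_zpow]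
    exact cn_quotient_caseP hCN p M hMp hMab hM x hx hxp
  · have hcop : (orderOf (x ^ p ^ b)).Coprime p := by
      have h1 : (x ^ p ^ b) ^ m = 1 := by rw [← pow_mul, ← hbm, pow_orderOf_eq_one]
      have h2 := orderOf_dvd_of_pow_eq_one h1
      exact Nat.Coprime.coprime_dvd_left h2
        ((Nat.Prime.coprime_iff_not_dvd Fact.out).mpr hm).symm
    have h1 := cn_quotient_caseQ hCN p M hMp (x ^ p ^ b) hx1 hcop
    refine isNilpotent_of_le' ?_ h1
    intro g hg
    rw [mem_centralizer_iff] at hg ⊢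
    intro w hw; rw [Set.mem_singleton_iff] at hw; rw [hw]
    have h0 := hg (x : G ⧸ M) (Set.mem_singleton _)
    rw [QuotientGroup.mk_pow]
    exact (Commute.pow_left h0 _).eq

end CNStep

/-- Feit–Hall–Thompson: a quotient of a CN-group by a solvable normal subgroup is a CN-group. -/
theorem cn_quotient_aux (n : ℕ) : ∀ (G : Type u) [Group G] [Finite G], Nat.card G = n →
    Cfsg.IsCNGroup G → ∀ (H : Subgroup G) [H.Normal], Group.IsSolvable H →
      Cfsg.IsCNGroup (G ⧸ H) := by
  induction n using Nat.strongRecOn with | ind n ih => ?_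
  intro G _ _ hn hCN H _ hH
  by_cases hbot : H = ⊥
  · subst hbot
    exact isCNGroup_of_mulEquiv (QuotientGroup.quotientBot (G := G)).symm hCN
  · obtain ⟨M, hMH, hMn, hMne, hMmin⟩ := Cfsg.Agent.Lib.Helper1.exists_minNormal_le H hbot
    haveI := hMn
    have hMs : Group.IsSolvable M := Cfsg.Agent.Lib.Helper1.isSolvable_of_le hMH hH
    obtain ⟨hcomm, p, hp, hexp⟩ := Cfsg.Agent.Lib.Helper1.minNormal_elementary M hMs hMne hMmin
    haveI : Fact p.Prime := ⟨hp⟩
    have hMp : IsPGroup p M := by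
      rintro ⟨a, ha⟩
      exact ⟨1, Subtype.ext (by simpa using hexp a ha)⟩
    have hMab : ∀ a ∈ M, ∀ b ∈ M, a * b = b * a := by
      intro a ha b hb
      have := (isMulCommutative_iff.mp hcomm) (⟨a, ha⟩ : M) ⟨b, hb⟩
      exact congrArg Subtype.val this
    have hstep := cn_quotient_step hCN p M hMp hMab hMne
    set H' : Subgroup (G ⧸ M) := H.map (QuotientGroup.mk' M) with hH'
    haveI : H'.Normal := Subgroup.Normal.map inferInstance _ (QuotientGroup.mk'_surjective M)
    have hH's : Group.IsSolvable H' := by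
      haveI := hH
      exact Group.isSolvable_of_surjective ((QuotientGroup.mk' M).subgroupMap_surjective H)
    have hcard : Nat.card (G ⧸ M) < n := by
      rw [← hn]
      apply card_quotient_lt
      rw [Subgroup.one_lt_card_iff_ne_bot]; exact hMne
    have h3 := ih (Nat.card (G ⧸ M)) hcard (G ⧸ M) rfl hstep H' hH's
    exact isCNGroup_of_mulEquiv (QuotientGroup.quotientQuotientEquivQuotient M H hMH) h3

theorem cn_quotient {G : Type u} [Group G] [Finite G] (hCN : Cfsg.IsCNGroup G) (H : Subgroup G)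
    [H.Normal] (hH : Group.IsSolvable H) : Cfsg.IsCNGroup (G ⧸ H) :=
  cn_quotient_aux _ G rfl hCN H hH

end Cfsg.Agent.Lib.Helper9
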